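import Cfsg.Agent.Lib.Lie.ReeCube.Spectrum
import Cfsg.Agent.Lib.Lie.Chev.Tw.Ree.Tori.Main

/-!
# Arbitrarily large groups with the element orders of the cube of a small Ree group
-/

set_option autoImplicit false

namespace CfsgLib.Lie.ReeCube

/-- a copy of `Fin n` in the bottom universe -/
structure Cop (n : ℕ) : Type where
  /-- the number -/
  val : Fin n

/-- the tautological equivalence -/
def copEquiv (n : ℕ) : Cop n ≃ Fin n where
  toFun := Cop.val
  invFun := Cop.mk
  left_inv := fun _ => rfl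
  right_inv := fun _ => rfl

theorem cube_spec {X R : Type*} [Group X] [Group R] (P : ℕ → Prop) (c₁ c₂ : ℕ)
    (hX : ∀ x : X, P (orderOf x)) (hX' : ∀ n, P n → ∃ x : X, orderOf x = n)
    (hR : ∀ d, (∃ g : R, orderOf g = d) ↔ P d ∨ d ∣ c₁ ∨ d ∣ c₂) :
    Set.range (orderOf : X × R × R → ℕ) = Set.range (orderOf : R × R × R → ℕ) := by
  ext n
  constructor
  · rintro ⟨⟨x, b, c⟩, rfl⟩
    obtain ⟨a, ha⟩ := (hR _).2 (Or.inl (hX x))
    exact ⟨(a, b, c), by simp only [Prod.orderOf, ha]⟩
  · rintro ⟨⟨a, b, c⟩, rfl⟩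
    have ha := (hR _).1 ⟨a, rfl⟩
    have hb := (hR _).1 ⟨b, rfl⟩
    have hc := (hR _).1 ⟨c, rfl⟩
    have good : ∀ (u v w : R), P (orderOf u) →
        ∃ p : X × R × R, orderOf p = (orderOf u).lcm ((orderOf v).lcm (orderOf w)) := by
      intro u v w h
      obtain ⟨x, hx⟩ := hX' _ h
      exact ⟨(x, v, w), by simp only [Prod.orderOf, hx]⟩
    have pair : ∀ (u v w : R) (C : ℕ), (C = c₁ ∨ C = c₂) → orderOf u ∣ C → orderOf v ∣ C →
        ∃ p : X × R × R, orderOf p = (orderOf u).lcm ((orderOf v).lcm (orderOf w)) := by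
      intro u v w C hC hu hv
      obtain ⟨r, hr⟩ : ∃ r : R, orderOf r = (orderOf u).lcm (orderOf v) := by
        rw [hR]
        rcases hC with e | e
        · exact Or.inr (Or.inl (e ▸ Nat.lcm_dvd hu hv))
        · exact Or.inr (Or.inr (e ▸ Nat.lcm_dvd hu hv))
      exact ⟨(1, r, w), by simp [Prod.orderOf, hr, Nat.lcm_assoc]⟩
    rw [Set.mem_range, Prod.orderOf (a, b, c), Prod.orderOf (b, c)]
    rcases ha with ha | ha
    · exact good a b c ha
    rcases hb with hb | hb
    · exact (good b a c hb).imp fun p hp => by rw [hp, ← Nat.lcm_assoc, Nat.lcm_comm (orderOf b), Nat.lcm_assoc]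
    rcases hc with hc | hc
    · exact (good c a b hc).imp fun p hp => by
        rw [hp, Nat.lcm_comm (orderOf c), Nat.lcm_assoc]
    rcases ha with ha | ha <;> rcases hb with hb | hb <;> rcases hc with hc | hc
    all_goals first
      | exact (pair a b c c₁ (Or.inl rfl) ha hb).imp fun p hp => by exact hp
      | exact (pair a b c c₂ (Or.inr rfl) ha hb).imp fun p hp => by exact hp
      | exact (pair a c b c₁ (Or.inl rfl) ha hc).imp fun p hp => by
          rw [hp, Nat.lcm_comm (orderOf c) (orderOf b)]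
      | exact (pair a c b c₂ (Or.inr rfl) ha hc).imp fun p hp => by
          rw [hp, Nat.lcm_comm (orderOf c) (orderOf b)]
      | exact (pair b c a c₁ (Or.inl rfl) hb hc).imp fun p hp => by
          rw [hp, ← Nat.lcm_assoc, Nat.lcm_comm]
      | exact (pair b c a c₂ (Or.inr rfl) hb hc).imp fun p hp => by
          rw [hp, ← Nat.lcm_assoc, Nat.lcm_comm]

variable {K : Type*} [Field K] [Fintype K] {m : ℕ}

theorem unboundedly_many (hm : 1 ≤ m) (hK : Fintype.card K = 3 ^ (2 * m + 1)) (N : ℕ) :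
    ∃ (H : Type) (_ : Group H) (_ : Fintype H), N < Fintype.card H ∧
      Set.range (orderOf : H → ℕ) = Set.range (orderOf : ↥(Cfsg.Lie.twistedG2 K (3 ^ m)) ×
        ↥(Cfsg.Lie.twistedG2 K (3 ^ m)) × ↥(Cfsg.Lie.twistedG2 K (3 ^ m)) → ℕ) := by
  haveI : Fact (Nat.Prime 3) := ⟨Nat.prime_three⟩
  haveI : CharP K 3 := charP_of_card_eq_prime_pow hK
  let R := ↥(Cfsg.Lie.twistedG2 K (3 ^ m))
  haveI : Finite (X K (N + 1)) := Finite.of_equiv _ SemidirectProduct.equivProd.symm
  let T := X K (N + 1) × R × R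
  let e := (copEquiv (Nat.card T)).trans (Finite.equivFin T).symm
  letI : Group (Cop (Nat.card T)) := e.group
  letI : Fintype (Cop (Nat.card T)) := Fintype.ofEquiv _ (copEquiv (Nat.card T)).symm
  refine ⟨Cop (Nat.card T), inferInstance, inferInstance, ?_, ?_⟩
  · rw [Fintype.card_congr (copEquiv (Nat.card T)), Fintype.card_fin, Nat.card_prod,
      Nat.card_congr SemidirectProduct.equivProd, Nat.card_prod,
      Nat.card_congr Multiplicative.toAdd, Nat.card_fun, Nat.card_fin]
    refine lt_of_lt_of_le ((Nat.lt_succ_self N).trans (Nat.lt_pow_self ?_))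
      ((Nat.le_mul_of_pos_right _ Nat.card_pos).trans (Nat.le_mul_of_pos_right _ Nat.card_pos))
    exact Finite.one_lt_card
  · have h := cube_spec (X := X K (N + 1)) (R := R) (IsGood (Fintype.card K))
      (3 ^ (2 * m + 1) - 3 ^ (m + 1) + 1) (3 ^ (2 * m + 1) + 3 ^ (m + 1) + 1)
      (order_good hK) (fun n hn => exists_good hK hm hn) (fun d => by
        refine (CfsgLib.Lie.Chev.TG2.order_statement hm hK d).trans ?_
        simp only [IsGood, hK, or_assoc])
    rw [← h]
    ext n
    constructor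
    · rintro ⟨x, rfl⟩
      exact ⟨e x, orderOf_injective e.mulEquiv.toMonoidHom e.mulEquiv.injective x⟩
    · rintro ⟨g, rfl⟩
      refine ⟨e.symm g, ?_⟩
      rw [← orderOf_injective e.mulEquiv.toMonoidHom e.mulEquiv.injective]
      show orderOf (e (e.symm g)) = _
      rw [Equiv.apply_symm_apply]

end CfsgLib.Lie.ReeCube
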