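import Cfsg.Agent.Lib.Char.TwoByTwoTorus
import Mathlib.GroupTheory.SemidirectProduct

/-!
# Powers of the twisted tensor module of `2 × SL(2,q)`, `q` an odd power of three

The group is the image of `{±1} × SL(2,q)` acting by `M ↦ z g M (gᶠ)ᵀ` with `f` the cube map, on
matrices of size two. The semidirect products of powers of the module by the image have element
orders the divisors of `6`, `9`, `q - 1` and `(q + 1)/2`.
-/

set_option autoImplicit false

namespace CfsgLib.Lie.ReeCube

open Matrix CfsgLib.PSL2Two CfsgLib.Char.TwoByTwo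
open scoped MatrixGroups

variable {K : Type*} [Field K] [CharP K 3]

/-- the cube map -/
noncomputable def cube (K : Type*) [Field K] [CharP K 3] : K →+* K := by
  haveI : Fact (Nat.Prime 3) := ⟨Nat.prime_three⟩
  exact frobenius K 3

theorem cube_apply (a : K) : cube K a = a ^ 3 := by
  haveI : Fact (Nat.Prime 3) := ⟨Nat.prime_three⟩
  rfl

/-- the action on one matrix -/
noncomputable def tens (z : ℤˣ) (g : SL2 K) (M : Matrix (Fin 2) (Fin 2) K) :
    Matrix (Fin 2) (Fin 2) K :=
  (((z : ℤ) : K)) • (g.1 * M * ((g.1).map (cube K))ᵀ)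

theorem tens_mul (z z' : ℤˣ) (g g' : SL2 K) (M : Matrix (Fin 2) (Fin 2) K) :
    tens (z * z') (g * g') M = tens z g (tens z' g' M) := by
  simp only [tens, Units.val_mul, Int.cast_mul, Matrix.SpecialLinearGroup.coe_mul, Matrix.map_mul,
    Matrix.transpose_mul, Matrix.mul_smul, Matrix.smul_mul, smul_smul, Matrix.mul_assoc]

theorem tens_one (M : Matrix (Fin 2) (Fin 2) K) : tens 1 1 M = M := by
  simp [tens]

theorem tens_add (z : ℤˣ) (g : SL2 K) (M N : Matrix (Fin 2) (Fin 2) K) :
    tens z g (M + N) = tens z g M + tens z g N := by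
  simp [tens, Matrix.mul_add, Matrix.add_mul]

variable {k : ℕ}

/-- the power of the module -/
abbrev V (K : Type*) (k : ℕ) : Type _ := Multiplicative (Fin k → Matrix (Fin 2) (Fin 2) K)

/-- one element acting on the power -/
noncomputable def psiAut (k : ℕ) (p : ℤˣ × SL2 K) : MulAut (V K k) where
  toFun v := Multiplicative.ofAdd fun i => tens p.1 p.2 (v.toAdd i)
  invFun v := Multiplicative.ofAdd fun i => tens p.1⁻¹ p.2⁻¹ (v.toAdd i)
  left_inv v := Multiplicative.toAdd.injective (funext fun i => by
    show tens p.1⁻¹ p.2⁻¹ (tens p.1 p.2 (v.toAdd i)) = _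
    rw [← tens_mul, inv_mul_cancel, inv_mul_cancel, tens_one])
  right_inv v := Multiplicative.toAdd.injective (funext fun i => by
    show tens p.1 p.2 (tens p.1⁻¹ p.2⁻¹ (v.toAdd i)) = _
    rw [← tens_mul, mul_inv_cancel, mul_inv_cancel, tens_one])
  map_mul' v w := Multiplicative.toAdd.injective (funext fun i => tens_add _ _ _ _)

/-- the action -/
noncomputable def psi (K : Type*) [Field K] [CharP K 3] (k : ℕ) :
    ℤˣ × SL2 K →* MulAut (V K k) where
  toFun := psiAut k
  map_one' := MulEquiv.ext fun v => Multiplicative.toAdd.injective (funext fun i => tens_one _)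
  map_mul' p p' := MulEquiv.ext fun v => Multiplicative.toAdd.injective (funext fun i =>
    tens_mul _ _ _ _ _)

theorem psi_apply (p : ℤˣ × SL2 K) (v : V K k) (i : Fin k) :
    (psi K k p v).toAdd i = tens p.1 p.2 (v.toAdd i) := rfl

/-- the semidirect product -/
abbrev X (K : Type*) [Field K] [CharP K 3] (k : ℕ) : Type _ :=
  V K k ⋊[(psi K k).range.subtype] ↥(psi K k).range

theorem psi_eq_one_of_scalar {p : ℤˣ × SL2 K} (hz : p.1 = 1) (hg : p.2.1 = 1 ∨ p.2.1 = -1) :
    psi K k p = 1 := by
  refine MulEquiv.ext fun v => Multiplicative.toAdd.injective (funext fun i => ?_)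
  rw [psi_apply, MulAut.one_apply, tens, hz]
  rcases hg with h | h <;> rw [h]
  · simp
  · have e : (-1 : Matrix (Fin 2) (Fin 2) K).map (cube K) = -1 := by
      ext i j; fin_cases i <;> fin_cases j <;> simp
    rw [e]; simp

/-- a power of an element of the semidirect product is fixed by it -/
theorem fixed_pow {x : X K k} {L : ℕ} (hL : x.right ^ L = 1) :
    (x.right : MulAut (V K k)) (x ^ L).left = (x ^ L).left := by
  have hr : (x ^ L).right = 1 := (map_pow SemidirectProduct.rightHom x L).trans hL
  have h := congrArg SemidirectProduct.left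
    ((Commute.self_pow x L).eq : x * x ^ L = x ^ L * x)
  rw [SemidirectProduct.mul_left, SemidirectProduct.mul_left, hr, map_one, MulAut.one_apply,
    mul_comm x.left] at h
  simpa using mul_right_cancel h

theorem pow_three_left (v : V K k) : v ^ 3 = 1 := by
  refine Multiplicative.toAdd.injective (funext fun i => ?_)
  rw [toAdd_pow, Pi.smul_apply]
  ext a b
  rw [Matrix.smul_apply, nsmul_eq_mul, CharP.cast_eq_zero K 3, zero_mul]
  rfl

theorem pow_mul_three {x : X K k} {L : ℕ} (hL : x.right ^ L = 1) : x ^ (L * 3) = 1 := by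
  have hr : (x ^ L).right = 1 := (map_pow SemidirectProduct.rightHom x L).trans hL
  have e : x ^ L = SemidirectProduct.inl (x ^ L).left := by
    refine SemidirectProduct.ext rfl ?_
    rw [hr, SemidirectProduct.right_inl]
  rw [pow_mul, e, ← map_pow, pow_three_left, map_one]

theorem pow_eq_one_of_no_fixed {x : X K k} {L : ℕ} (hL : x.right ^ L = 1)
    (hfix : ∀ v : V K k, (x.right : MulAut (V K k)) v = v → v = 1) : x ^ L = 1 :=
  SemidirectProduct.ext (hfix _ (fixed_pow hL))
    ((map_pow SemidirectProduct.rightHom x L).trans hL)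

/-- without fixed vectors -/
theorem no_fixed (hneg : ∀ r : K, r ^ 2 ≠ -1) {z : ℤˣ} {g : SL2 K} (h0 : g.1.trace ≠ 0) (h1 : g.1.trace ^ 2 ≠ 1)
    {M : Matrix (Fin 2) (Fin 2) K} (hM : tens z g M = M) : M = 0 := by
  set t := g.1.trace
  set A := (g.1.map (cube K))ᵀ
  have ht : A.trace = t ^ 3 := by
    haveI : Fact (Nat.Prime 3) := ⟨Nat.prime_three⟩
    simp only [A, t, Matrix.trace_transpose, Matrix.trace_fin_two, Matrix.map_apply, cube_apply]
    rw [add_pow_char]
  have hdA : A.det = 1 := by
    rw [Matrix.det_transpose, ← RingHom.mapMatrix_apply, ← RingHom.map_det, g.2, map_one]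
  have hch : ∀ B : Matrix (Fin 2) (Fin 2) K, B.det = 1 → B * B = B.trace • B - 1 := by
    intro B hB
    rw [Matrix.det_fin_two] at hB
    ext i j
    fin_cases i <;> fin_cases j <;>
      simp [Matrix.mul_apply, Fin.sum_univ_two, Matrix.trace_fin_two] <;>
      first | linear_combination hB | linear_combination -hB | ring
  set c : K := ((z : ℤ) : K)
  have hc : c * c = 1 := by
    rcases Int.units_eq_one_or z with e | e <;> simp [c, e]
  have e1 : c • (g.1 * M * A) = M := hM
  have e1' : g.1 * M * A = c • M := by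
    conv_rhs => rw [← e1]
    rw [smul_smul, hc, one_smul]
  have hright : g.1 * M = c • (M * ((t ^ 3) • 1 - A)) := by
    have hAinv : A * ((t ^ 3) • 1 - A) = 1 := by
      rw [Matrix.mul_sub, Matrix.mul_smul, Matrix.mul_one, hch _ hdA, ht]; abel
    calc g.1 * M = g.1 * M * (A * ((t ^ 3) • 1 - A)) := by rw [hAinv, Matrix.mul_one]
      _ = c • (M * ((t ^ 3) • 1 - A)) := by
        rw [← Matrix.mul_assoc, e1', Matrix.smul_mul]
  have key : (t * c - t ^ 3) • (M * ((t ^ 3) • 1 - A)) = 0 := by
    have hB : ((t ^ 3) • (1 : Matrix (Fin 2) (Fin 2) K) - A) *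
        ((t ^ 3) • 1 - A) = (t ^ 3) • ((t ^ 3) • 1 - A) - 1 := by
      simp only [Matrix.sub_mul, Matrix.mul_sub, Matrix.smul_mul, Matrix.mul_smul, Matrix.one_mul,
        Matrix.mul_one, hch _ hdA, ht, smul_sub]
      module
    have e4 : g.1 * g.1 * M = M * (((t ^ 3) • 1 - A) * ((t ^ 3) • 1 - A)) := by
      rw [Matrix.mul_assoc, hright, Matrix.mul_smul, ← Matrix.mul_assoc, hright, Matrix.smul_mul,
        smul_smul, hc, one_smul, Matrix.mul_assoc]
    rw [hch _ g.2, hB, Matrix.sub_mul, Matrix.smul_mul, Matrix.one_mul, hright, Matrix.mul_sub,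
      Matrix.mul_smul, Matrix.mul_one, smul_smul] at e4
    simp only [Matrix.mul_sub, Matrix.mul_smul, Matrix.mul_one, smul_sub, smul_smul] at e4 ⊢
    linear_combination (norm := module) e4
  rcases smul_eq_zero.1 key with e | e
  · exfalso
    have e' : t * (c - t ^ 2) = 0 := by linear_combination e
    have h2 : t ^ 2 = c := (sub_eq_zero.1 ((mul_eq_zero.1 e').resolve_left h0)).symm
    rcases Int.units_eq_one_or z with hz | hz
    · exact h1 (by rw [h2]; simp [c, hz])
    · exact hneg t (by rw [h2]; simp [c, hz])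
  · have : M = M * ((t ^ 3) • 1 - A) * A := by
      rw [Matrix.mul_assoc, Matrix.sub_mul, Matrix.smul_mul, Matrix.one_mul, hch _ hdA, ht]
      simp
    rw [this, e, Matrix.zero_mul]

end CfsgLib.Lie.ReeCube
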