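import Cfsg.Agent.Lib.Lie.ReeCube.Module

/-!
# The element orders of the semidirect products
-/

set_option autoImplicit false

namespace CfsgLib.Lie.ReeCube

open Matrix CfsgLib.PSL2Two CfsgLib.Char.TwoByTwo
open scoped MatrixGroups

variable {K : Type*} [Field K] [CharP K 3] [Fintype K] {m k : ℕ}

theorem two_ne : (2 : K) ≠ 0 := by
  intro h
  have h3 : ((3 : ℕ) : K) = 0 := CharP.cast_eq_zero K 3
  exact one_ne_zero (α := K) (by push_cast at h3; linear_combination h3 - h)

theorem residues (hK : Fintype.card K = 3 ^ (2 * m + 1)) :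
    (∃ r, Fintype.card K = 4 * r + 3) ∧ Fintype.card K % 2 = 1 ∧
      2 ∣ (Fintype.card K + 1) / 2 ∧ ∀ r : K, r ^ 2 ≠ -1 := by
  have h4 : Fintype.card K % 4 = 3 := by
    rw [hK, pow_succ, pow_mul, Nat.mul_mod, Nat.pow_mod]
    norm_num
  refine ⟨⟨Fintype.card K / 4, by omega⟩, by omega, by omega, fun r hr => ?_⟩
  have h := FiniteField.isSquare_neg_one_iff.1 (⟨r, by rw [← pow_two]; exact hr.symm⟩ : IsSquare (-1 : K))
  exact h h4

/-- the possible orders -/
def IsGood (q n : ℕ) : Prop := n ∣ 6 ∨ n ∣ 9 ∨ n ∣ q - 1 ∨ n ∣ (q + 1) / 2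

theorem order_good (hK : Fintype.card K = 3 ^ (2 * m + 1)) (x : X K k) :
    IsGood (Fintype.card K) (orderOf x) := by
  obtain ⟨-, hodd, hev, hneg⟩ := residues hK
  haveI : Fact (Nat.Prime 3) := ⟨Nat.prime_three⟩
  obtain ⟨⟨z, g⟩, hp⟩ := x.right.2
  set t := g.1.trace
  have hr : ∀ L, psi K k (z, g) ^ L = 1 → x.right ^ L = 1 := fun L h =>
    Subtype.ext (by rw [SubmonoidClass.coe_pow, ← hp, h]; rfl)
  have hpow : ∀ L, psi K k (z, g) ^ L = psi K k (z ^ L, g ^ L) := fun L => by rw [← map_pow]; rfl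
  have hch : g.1 * g.1 = t • g.1 - 1 := by
    have h := g.2
    rw [Matrix.det_fin_two] at h
    ext i j
    fin_cases i <;> fin_cases j <;>
      simp [t, Matrix.mul_apply, Fin.sum_univ_two, Matrix.trace_fin_two] <;>
      first | linear_combination h | linear_combination -h | ring
  have hsq : ∀ L, 2 ∣ L → z ^ L = 1 := by
    rintro L ⟨c, rfl⟩
    rw [pow_mul, Int.units_sq, one_pow]
  by_cases h0 : t = 0
  · refine Or.inl (orderOf_dvd_of_pow_eq_one (show x ^ (2 * 3) = 1 from pow_mul_three (hr 2 ?_)))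
    rw [hpow]
    refine psi_eq_one_of_scalar (hsq 2 dvd_rfl) (Or.inr ?_)
    rw [Matrix.SpecialLinearGroup.coe_pow, pow_two, hch, h0, zero_smul, zero_sub]
  by_cases h1 : t ^ 2 = 1
  · have hN : (g.1 + t • (1 : Matrix (Fin 2) (Fin 2) K)) * (g.1 + t • 1) = 0 := by
      have h3 : (3 : K) = 0 := by exact_mod_cast CharP.cast_eq_zero K 3
      simp only [Matrix.add_mul, Matrix.mul_add, Matrix.smul_mul, Matrix.mul_smul, Matrix.one_mul,
        Matrix.mul_one, hch]
      linear_combination (norm := module) h3 • (t • g.1) + h1 • (1 : Matrix (Fin 2) (Fin 2) K)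
    have hc3 : g.1 ^ 3 = (-(t ^ 3)) • (1 : Matrix (Fin 2) (Fin 2) K) := by
      have hcomm : Commute (g.1 + t • (1 : Matrix (Fin 2) (Fin 2) K)) ((-t) • 1) :=
        (Commute.one_right _).smul_right _
      have e := add_pow_char_of_commute 3 hcomm
      rw [show g.1 + t • (1 : Matrix (Fin 2) (Fin 2) K) + (-t) • 1 = g.1 by module, smul_pow, one_pow,
        pow_succ (g.1 + t • 1), pow_two, hN, Matrix.zero_mul, zero_add] at e
      rw [e]
      congr 1
      ring
    have hpm : g.1 ^ 3 = 1 ∨ g.1 ^ 3 = -1 := by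
      rcases mul_self_eq_one_iff.1 (show (-(t ^ 3)) * (-(t ^ 3)) = 1 by
        linear_combination (t ^ 4 + t ^ 2 + 1) * h1) with e | e
      · exact Or.inl (by rw [hc3, e, one_smul])
      · exact Or.inr (by rw [hc3, e, neg_smul, one_smul])
    rcases Int.units_eq_one_or z with hz | hz
    · refine Or.inr (Or.inl (orderOf_dvd_of_pow_eq_one (show x ^ (3 * 3) = 1 from pow_mul_three (hr 3 ?_))))
      rw [hpow]
      exact psi_eq_one_of_scalar (by simp [hz]) (by rwa [Matrix.SpecialLinearGroup.coe_pow])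
    · refine Or.inl (orderOf_dvd_of_pow_eq_one (pow_eq_one_of_no_fixed (hr 6 ?_) fun v hv => ?_))
      · rw [hpow]
        refine psi_eq_one_of_scalar (hsq 6 (by norm_num)) ?_
        rw [Matrix.SpecialLinearGroup.coe_pow, pow_mul g.1 3 2]
        rcases hpm with e | e <;> rw [e] <;> simp
      · have hv3 : psi K k (z ^ 3, g ^ 3) v = v := by
          have e : psi K k (z, g) v = v := by rw [hp]; exact hv
          rw [← hpow, pow_succ, pow_two, MulAut.mul_apply, MulAut.mul_apply, e, e, e]
        refine Multiplicative.toAdd.injective (funext fun i => ?_)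
        have h := congrArg (fun w : V K k => w.toAdd i) hv3
        simp only [psi_apply, tens, hz, Matrix.SpecialLinearGroup.coe_pow] at h
        have hneg' : -(v.toAdd i) = v.toAdd i := by
          have hm1 : (-1 : Matrix (Fin 2) (Fin 2) K).map (cube K) = -1 := by
            ext i j; fin_cases i <;> fin_cases j <;> simp
          rcases hpm with e | e <;> rw [e] at h
          · rw [Matrix.map_one _ (map_zero _) (map_one _)] at h
            simpa [pow_succ] using h
          · rw [hm1] at h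
            simpa [pow_succ] using h
        ext a b
        have e := congrFun (congrFun hneg' a) b
        rw [Matrix.neg_apply] at e
        show v.toAdd i a b = 0
        exact (mul_eq_zero.1 (by linear_combination -e : (2 : K) * v.toAdd i a b = 0)).resolve_left
          two_ne
  have hfix : ∀ v : V K k, (x.right : MulAut (V K k)) v = v → v = 1 := by
    intro v hv
    rw [← hp] at hv
    refine Multiplicative.toAdd.injective (funext fun i => ?_)
    exact no_fixed hneg h0 h1 (congrArg (fun w : V K k => w.toAdd i) hv)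
  have hD : disc g.1 ≠ 0 := by
    intro h
    rw [disc, g.2, mul_one] at h
    have h3 : (3 : K) = 0 := by exact_mod_cast CharP.cast_eq_zero K 3
    exact h1 (by linear_combination h + h3)
  rcases disc_cases hodd g.1 with h | h | h
  · exact absurd h hD
  · refine Or.inr (Or.inr (Or.inl (orderOf_dvd_of_pow_eq_one (pow_eq_one_of_no_fixed (hr _ ?_) hfix))))
    rw [hpow]
    refine psi_eq_one_of_scalar (hsq _ (by omega)) (Or.inl ?_)
    rw [Matrix.SpecialLinearGroup.coe_pow]
    exact pow_card_sub_one_of_disc_sq hodd (by rw [g.2]; exact one_ne_zero) h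
  · refine Or.inr (Or.inr (Or.inr (orderOf_dvd_of_pow_eq_one (pow_eq_one_of_no_fixed (hr _ ?_) hfix))))
    rw [hpow]
    refine psi_eq_one_of_scalar (hsq _ hev) ?_
    refine eq_one_or_neg_of_sq_one two_ne ?_
    rw [Matrix.SpecialLinearGroup.coe_pow, ← pow_add,
      show (Fintype.card K + 1) / 2 + (Fintype.card K + 1) / 2 = Fintype.card K + 1 by omega,
      pow_card_add_one_of_disc_nonsq hodd h, g.2, one_smul]

theorem tens_single (z : ℤˣ) (g : SL2 K) (i j a b : Fin 2) :
    tens z g (Matrix.single i j (1 : K)) a b = ((z : ℤ) : K) * (g.1 a i * g.1 b j ^ 3) := by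
  fin_cases i <;> fin_cases j <;> fin_cases a <;> fin_cases b <;>
    simp [tens, Matrix.mul_apply, Fin.sum_univ_two, Matrix.single_apply, cube_apply]

/-- the unipotent matrix -/
def uni (K : Type*) [Field K] : SL2 K := ⟨!![1, 1; 0, 1], by simp [Matrix.det_fin_two]⟩

theorem uni_pow (n : ℕ) : ((uni K) ^ n).1 = !![1, (n : K); 0, 1] := by
  induction n with
  | zero => ext i j; fin_cases i <;> fin_cases j <;> simp
  | succ n ih =>
    rw [pow_succ, Matrix.SpecialLinearGroup.coe_mul, ih]
    ext i j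
    fin_cases i <;> fin_cases j <;> simp [uni, Matrix.mul_apply, Fin.sum_univ_two]
    ring

theorem psi_pow_one (p : ℤˣ × SL2 K) (n : ℕ) (h : psi K (k + 1) p ^ n = 1)
    (M : Matrix (Fin 2) (Fin 2) K) : tens (p.1 ^ n) (p.2 ^ n) M = M := by
  rw [← map_pow] at h
  exact congrArg (fun f : MulAut (V K (k + 1)) =>
    (f (Multiplicative.ofAdd fun _ => M)).toAdd 0) h

theorem orderOf_inr_psi (p : ℤˣ × SL2 K) :
    orderOf (SemidirectProduct.inr ⟨psi K (k + 1) p, ⟨p, rfl⟩⟩ : X K (k + 1)) =
      orderOf (psi K (k + 1) p) := by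
  rw [orderOf_injective _ SemidirectProduct.inr_injective, ← Subgroup.orderOf_coe]

theorem exists_six : ∃ x : X K (k + 1), orderOf x = 6 := by
  refine ⟨_, (orderOf_inr_psi (-1, uni K)).trans ?_⟩
  have h3 : (3 : K) = 0 := by exact_mod_cast CharP.cast_eq_zero K 3
  rw [orderOf_eq_iff (by norm_num)]
  have hu3 : (uni K).1 ^ 3 = 1 := by
    rw [pow_succ, pow_two]
    ext i j
    fin_cases i <;> fin_cases j <;> simp [uni, Matrix.mul_apply, Fin.sum_univ_two]
    linear_combination h3
  refine ⟨?_, fun n hn hn0 h => ?_⟩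
  · rw [← map_pow]
    refine psi_eq_one_of_scalar rfl (Or.inl ?_)
    show ((uni K) ^ 6).1 = 1
    rw [Matrix.SpecialLinearGroup.coe_pow, pow_mul (uni K).1 3 2, hu3, one_pow]
  · have e1 := psi_pow_one _ n h (Matrix.single 0 0 (1 : K))
    have e2 := psi_pow_one _ n h (Matrix.single 1 1 (1 : K))
    have a1 := congrFun (congrFun e1 0) 0
    have a2 := congrFun (congrFun e2 0) 1
    rw [tens_single, uni_pow] at a1 a2
    interval_cases n <;> simp at a1 a2
    all_goals first
      | exact two_ne (K := K) (by linear_combination -a1)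
      | exact two_ne (K := K) (by linear_combination a2)
      | exact one_ne_zero (α := K) (by linear_combination a2 - h3)

theorem exists_nine : ∃ x : X K (k + 1), orderOf x = 9 := by
  set γ : ↥(psi K (k + 1)).range := ⟨psi K (k + 1) (1, uni K), ⟨_, rfl⟩⟩
  set v : V K (k + 1) := Multiplicative.ofAdd fun _ => Matrix.single 1 1 (1 : K)
  refine ⟨⟨v, γ⟩, ?_⟩
  have h3 : (3 : K) = 0 := by exact_mod_cast CharP.cast_eq_zero K 3
  have hγ : γ ^ 3 = 1 := Subtype.ext (by
    rw [SubmonoidClass.coe_pow, ← map_pow]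
    refine psi_eq_one_of_scalar rfl (Or.inl ?_)
    show ((uni K) ^ 3).1 = 1
    rw [Matrix.SpecialLinearGroup.coe_pow, pow_succ, pow_two]
    ext i j
    fin_cases i <;> fin_cases j <;> simp [uni, Matrix.mul_apply, Fin.sum_univ_two]
    linear_combination h3)
  haveI : Fact (Nat.Prime 3) := ⟨Nat.prime_three⟩
  refine orderOf_eq_prime_pow (p := 3) (n := 1) (fun h => ?_)
    (show (⟨v, γ⟩ : X K (k + 1)) ^ (3 * 3) = 1 from pow_mul_three (x := ⟨v, γ⟩) hγ)
  rw [pow_one] at h
  have e := congrArg (fun w : X K (k + 1) => w.left.toAdd 0 0 0) h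
  have hl : ((⟨v, γ⟩ : X K (k + 1)) ^ 3).left.toAdd 0 = Matrix.single 1 1 (1 : K) +
      tens 1 (uni K) (Matrix.single 1 1 (1 : K)) +
      tens (1 * 1) (uni K * uni K) (Matrix.single 1 1 (1 : K)) := by
    rw [tens_mul, pow_succ, pow_two]
    rfl
  simp only [hl, Matrix.add_apply, tens_single, ← pow_two, uni_pow] at e
  simp [uni] at e
  exact two_ne (K := K) (by linear_combination e - 5 * h3)

theorem exists_q_sub_one (hK : Fintype.card K = 3 ^ (2 * m + 1)) :
    ∃ x : X K (k + 1), orderOf x = Fintype.card K - 1 := by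
  obtain ⟨⟨r, hr⟩, -, -, -⟩ := residues hK
  obtain ⟨a, ha⟩ := IsCyclic.exists_ofOrder_eq_natCard (α := Kˣ)
  rw [Nat.card_units, Nat.card_eq_fintype_card] at ha
  let d : SL2 K := ⟨!![(a : K), 0; 0, ((a⁻¹ : Kˣ) : K)], by simp [Matrix.det_fin_two]⟩
  refine ⟨_, (orderOf_inr_psi (-1, d)).trans ?_⟩
  rw [orderOf_eq_iff (by omega)]
  have hd : ∀ n, (d ^ n).1 = !![(a : K) ^ n, 0; 0, ((a⁻¹ : Kˣ) : K) ^ n] := fun n => by
    induction n with
    | zero => ext i j; fin_cases i <;> fin_cases j <;> simp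
    | succ n ih =>
      rw [pow_succ, Matrix.SpecialLinearGroup.coe_mul, ih]
      ext i j
      fin_cases i <;> fin_cases j <;> simp [d, Matrix.mul_apply, Fin.sum_univ_two, pow_succ]
  have hq : a ^ (Fintype.card K - 1) = 1 := by rw [← ha]; exact pow_orderOf_eq_one a
  refine ⟨?_, fun n hn hn0 h => ?_⟩
  · rw [← map_pow]
    refine psi_eq_one_of_scalar (?_ : (-1 : ℤˣ) ^ (Fintype.card K - 1) = 1) (Or.inl ?_)
    · rw [Even.neg_one_pow ⟨2 * r + 1, by omega⟩]
    · show (d ^ (Fintype.card K - 1)).1 = 1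
      rw [hd]
      have e1 : (a : K) ^ (Fintype.card K - 1) = 1 := by
        rw [← Units.val_pow_eq_pow_val, hq, Units.val_one]
      have e2 : ((a⁻¹ : Kˣ) : K) ^ (Fintype.card K - 1) = 1 := by
        rw [← Units.val_pow_eq_pow_val, inv_pow, hq, inv_one, Units.val_one]
      rw [e1, e2]
      exact Matrix.one_fin_two.symm
  · have e1 := congrFun (congrFun (psi_pow_one _ n h (Matrix.single 0 0 (1 : K))) 0) 0
    have e2 := congrFun (congrFun (psi_pow_one _ n h (Matrix.single 0 1 (1 : K))) 0) 1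
    simp only [tens_single, hd] at e1 e2
    simp at e1 e2
    set u := (a : K) ^ n
    have hu : u ≠ 0 := pow_ne_zero _ a.ne_zero
    set c : K := (-1) ^ n
    have hc : c * c = 1 := by rw [← mul_pow]; simp
    have e2' : c = u ^ 2 := by
      field_simp at e2
      linear_combination e2
    have hu4 : u ^ 4 = 1 := by linear_combination hc - (c + u ^ 2) * e2'
    have hc1 : c = 1 := by linear_combination e1 - c * hu4
    have hu2 : a ^ (2 * n) = 1 := Units.ext (by
      rw [Units.val_pow_eq_pow_val, mul_comm, pow_mul, Units.val_one]; exact e2' ▸ hc1)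
    have hdvd := orderOf_dvd_of_pow_eq_one hu2
    rw [ha] at hdvd
    have hev : Even n := by
      rcases Nat.even_or_odd n with h' | h'
      · exact h'
      · exfalso
        have : c = -1 := h'.neg_one_pow
        exact two_ne (K := K) (by linear_combination this - hc1)
    obtain ⟨j, rfl⟩ := hev
    have h1 : 2 * r + 1 ∣ j * 2 :=
      Nat.dvd_of_mul_dvd_mul_left (by norm_num : 0 < 2) (by
        rw [show 2 * (2 * r + 1) = Fintype.card K - 1 by omega,
          show 2 * (j * 2) = 2 * (j + j) by ring]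
        exact hdvd)
    have h2 : 2 * r + 1 ∣ j :=
      (Nat.Coprime.dvd_of_dvd_mul_right (Nat.coprime_two_right.2 ⟨r, rfl⟩) h1)
    have := Nat.le_of_dvd (by omega) h2
    omega

theorem exists_q_add_one_half (hK : Fintype.card K = 3 ^ (2 * m + 1)) (hm : 1 ≤ m) :
    ∃ x : X K (k + 1), orderOf x = (Fintype.card K + 1) / 2 := by
  obtain ⟨-, hodd, hev, hneg⟩ := residues hK
  haveI : Fact (∀ r : K, r ^ 2 ≠ (-1 : K) + 0 * r) :=
    ⟨fun r => by rw [zero_mul, add_zero]; exact hneg r⟩
  have h5 : 5 ≤ Fintype.card K := by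
    rw [hK]
    calc 5 ≤ 3 ^ 3 := by norm_num
      _ ≤ 3 ^ (2 * m + 1) := Nat.pow_le_pow_right (by norm_num) (by omega)
  obtain ⟨u, hdet, hord⟩ := exists_psl_torus (-1 : K) hodd h5
  set A : SL2 K := torSL (-1 : K) u hdet
  refine ⟨_, (orderOf_inr_psi (1, A)).trans ?_⟩
  rw [← hord]
  refine Nat.dvd_antisymm (orderOf_dvd_of_pow_eq_one ?_) (orderOf_dvd_of_pow_eq_one ?_)
  · rw [← map_pow]
    refine psi_eq_one_of_scalar (one_pow _) ?_
    have h := pow_orderOf_eq_one (π A)
    rwa [← map_pow, π_eq_one_iff] at h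
  · rw [← map_pow, π_eq_one_iff]
    set n := orderOf (psi K (k + 1) (1, A))
    have hM : ∀ M, (A ^ n).1 * M * ((A ^ n).1.map (cube K))ᵀ = M := fun M => by
      have h := psi_pow_one _ n (pow_orderOf_eq_one (psi K (k + 1) (1, A))) M
      simpa [tens] using h
    set P := (A ^ n).1
    set Q := (P.map (cube K))ᵀ
    have h1 : P * Q = 1 := by simpa using hM 1
    have h1' : Q * P = 1 := mul_eq_one_comm.1 h1
    have hcomm : ∀ M, P * M = M * P := fun M => by
      calc P * M = P * M * (Q * P) := by rw [h1', Matrix.mul_one]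
        _ = M * P := by rw [← Matrix.mul_assoc, hM M]
    have a1 := congrFun (congrFun (hcomm (Matrix.single 0 1 (1 : K))) 0) 1
    have a2 := congrFun (congrFun (hcomm (Matrix.single 0 1 (1 : K))) 0) 0
    have a3 := congrFun (congrFun (hcomm (Matrix.single 1 0 (1 : K))) 0) 0
    simp [Matrix.mul_apply, Fin.sum_univ_two, Matrix.single_apply] at a1 a2 a3
    refine eq_one_or_neg_of_sq_one two_ne ?_
    have hd := (A ^ n).2
    rw [Matrix.det_fin_two] at hd
    show P * P = 1
    ext i j
    fin_cases i <;> fin_cases j <;> simp [Matrix.mul_apply, Fin.sum_univ_two] <;> grind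

theorem exists_dvd {G : Type*} [Group G] [Finite G] {x : G} {n : ℕ}
    (h : n ∣ orderOf x) : ∃ y : G, orderOf y = n := by
  obtain ⟨c, hc⟩ := h
  have hpos := orderOf_pos x
  have hc0 : c ≠ 0 := fun e => by rw [e, mul_zero] at hc; omega
  exact ⟨x ^ c, by rw [orderOf_pow_of_dvd hc0 ⟨n, by rw [hc, mul_comm]⟩, hc,
    Nat.mul_div_cancel _ (Nat.pos_of_ne_zero hc0)]⟩

theorem exists_good (hK : Fintype.card K = 3 ^ (2 * m + 1)) (hm : 1 ≤ m) {n : ℕ}
    (h : IsGood (Fintype.card K) n) : ∃ x : X K (k + 1), orderOf x = n := by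
  have : Finite (X K (k + 1)) := Finite.of_equiv _ SemidirectProduct.equivProd.symm
  rcases h with h | h | h | h
  · obtain ⟨x, hx⟩ := exists_six (K := K) (k := k); exact exists_dvd (x := x) (by rw [hx]; exact h)
  · obtain ⟨x, hx⟩ := exists_nine (K := K) (k := k); exact exists_dvd (x := x) (by rw [hx]; exact h)
  · obtain ⟨x, hx⟩ := exists_q_sub_one (k := k) hK; exact exists_dvd (x := x) (by rw [hx]; exact h)
  · obtain ⟨x, hx⟩ := exists_q_add_one_half (k := k) hK hm
    exact exists_dvd (x := x) (by rw [hx]; exact h)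

end CfsgLib.Lie.ReeCube
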